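import Groth.Agent.Lib.Trace19.Mult
import Groth.Agent.Lib.FibreFlat.Stalk
import Groth.Prelude.Def_CurvBase
import Mathlib.RingTheory.RamificationInertia.Ramification

/-!
# Ramification of a base change to an algebraically closed field
-/

set_option autoImplicit false
set_option linter.all false
set_option backward.isDefEq.respectTransparency false

universe u

open CategoryTheory CategoryTheory.Limits AlgebraicGeometry IsLocalRing

noncomputable section

namespace GrothLib.RamInsep9

/-- Inseparable degrees along bijections. -/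
theorem finInsepDegree_square {k k' L L' : Type u} [Field k] [Field k'] [Field L] [Field L']
    (φ : k →+* L) (φ' : k' →+* L') (a : k →+* k') (b : L →+* L') (ha : Function.Bijective a)
    (hb : Function.Bijective b) (h : φ'.comp a = b.comp φ)
    (hfin : φ.Finite) :
    (letI := φ'.toAlgebra; Field.finInsepDegree k' L') = (letI := φ.toAlgebra; Field.finInsepDegree k L) := by
  letI := φ'.toAlgebra
  letI := φ.toAlgebra
  letI := a.toAlgebra
  letI := b.toAlgebra
  letI : Algebra k L' := (b.comp φ).toAlgebra
  haveI : IsScalarTower k L L' := IsScalarTower.of_algebraMap_eq' rfl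
  haveI : IsScalarTower k k' L' := IsScalarTower.of_algebraMap_eq' h.symm
  haveI : Module.Finite k L := hfin
  haveI : Module.Finite L L' := Module.Finite.of_surjective (Algebra.linearMap L L') hb.2
  haveI : Module.Finite k L' := Module.Finite.trans L L'
  haveI : Module.Finite k k' := Module.Finite.of_surjective (Algebra.linearMap k k') ha.2
  haveI : Module.Finite k' L' := Module.Finite.of_restrictScalars_finite k k' L'
  haveI : Algebra.IsSeparable k k' := AlgEquiv.Algebra.isSeparable (AlgEquiv.ofBijective (Algebra.ofId k k') ha)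
  haveI : Algebra.IsSeparable L L' := AlgEquiv.Algebra.isSeparable (AlgEquiv.ofBijective (Algebra.ofId L L') hb)
  have h1 := Field.finInsepDegree_mul_finInsepDegree_of_isAlgebraic k k' L'
  have h2 := Field.finInsepDegree_mul_finInsepDegree_of_isAlgebraic k L L'
  rw [Algebra.IsSeparable.finInsepDegree_eq k k', one_mul] at h1
  rw [Algebra.IsSeparable.finInsepDegree_eq L L', mul_one] at h2
  rw [h1, h2]

/-- The canonical map from a field to the residue field of its spectrum. -/
def toRes (L : Type u) [Field L] (a : Spec (CommRingCat.of L)) : L →+* (Spec (CommRingCat.of L)).residueField a :=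
  ((Scheme.ΓSpecIso (CommRingCat.of L)).inv ≫ (Spec (CommRingCat.of L)).presheaf.germ ⊤ a trivial ≫
    (Spec (CommRingCat.of L)).residue a).hom

theorem bijective_toRes (L : Type u) [Field L] (a : Spec (CommRingCat.of L)) : Function.Bijective (toRes L a) := by
  refine ⟨RingHom.injective _, ?_⟩
  unfold toRes
  rw [← AlgebraicGeometry.Scheme.Spec.algebraMap_residueFieldIso_inv]
  let p : Ideal L := (show PrimeSpectrum L from a).asIdeal
  haveI : p.IsPrime := (show PrimeSpectrum L from a).2
  have h : Function.Surjective (algebraMap L p.ResidueField) := by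
    haveI : p.IsMaximal := by
      rw [(Ideal.eq_bot_or_top p).resolve_right Ideal.IsPrime.ne_top']
      exact Ideal.bot_isMaximal
    rw [IsScalarTower.algebraMap_eq L (L ⧸ p) p.ResidueField]
    exact p.bijective_algebraMap_quotient_residueField.2.comp Ideal.Quotient.mk_surjective
  exact (ConcreteCategory.bijective_of_isIso (Scheme.Spec.residueFieldIso (CommRingCat.of L) a).inv).2.comp h

theorem residueFieldMap_toRes {k L : Type u} [Field k] [Field L] (φ : k →+* L) (a : Spec (CommRingCat.of L)) :
    ((Spec.map (CommRingCat.ofHom φ)).residueFieldMap a).hom.comp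
      (toRes k (Spec.map (CommRingCat.ofHom φ) a)) = (toRes L a).comp φ := by
  unfold toRes
  rw [← CommRingCat.hom_comp]
  show _ = (CommRingCat.ofHom φ ≫ _).hom
  congr 1
  rw [Category.assoc, Category.assoc, Scheme.residue_residueFieldMap, Scheme.Hom.germ_stalkMap_assoc,
    ← Category.assoc (CommRingCat.ofHom φ), Scheme.ΓSpecIso_inv_naturality]
  rfl

theorem fromSpecResidueField_comp {k : Type u} [Field k] (X : Scheme.{u}) [X.Over (Spec (CommRingCat.of k))] (x : X) :
    X.fromSpecResidueField x ≫ (X ↘ Spec (CommRingCat.of k)) = Spec.map (CommRingCat.ofHom (Curv2.resMap k X x)) := by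
  have h1 : X.fromSpecStalk x ≫ (X ↘ Spec (CommRingCat.of k)) =
      Spec.map (CommRingCat.ofHom (Curv2.stalkMap k X x)) := by
    have hp : (X ↘ Spec (CommRingCat.of k)) = X.toSpecΓ ≫
        Spec.map ((Scheme.ΓSpecIso (CommRingCat.of k)).inv ≫ (X ↘ Spec (CommRingCat.of k)).appTop) := by
      rw [Spec.map_comp, ← Scheme.toSpecΓ_naturality_assoc, toSpecΓ_SpecMap_ΓSpecIso_inv, Category.comp_id]
    conv_lhs => rw [hp]
    rw [Scheme.fromSpecStalk_toSpecΓ_assoc, ← Spec.map_comp]
    rfl
  rw [Scheme.fromSpecResidueField, Category.assoc, h1, ← Spec.map_comp]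
  rfl

theorem isField_stalk (L : Type u) [Field L] (a : Spec (CommRingCat.of L)) :
    IsField ((Spec (CommRingCat.of L)).presheaf.stalk a) := by
  let e := (Spec.stalkIso (CommRingCat.of L) a).commRingCatIsoToRingEquiv
  refine MulEquiv.isField (Field.toIsField L) (e.toMulEquiv.trans ?_)
  exact (IsLocalization.atUnits L (show PrimeSpectrum L from a).asIdeal.primeCompl (S := Localization.AtPrime (show PrimeSpectrum L from a).asIdeal)
    fun b hb => IsUnit.mk0 b fun h => hb (h ▸ Ideal.zero_mem _)).symm.toMulEquiv

theorem length_quotient_ker {A B : Type u} [CommRing A] [CommRing B] (φ : A →+* B)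
    (hφ : Function.Surjective φ) : Module.length A (A ⧸ RingHom.ker φ) = Module.length B B := by
  letI := φ.toAlgebra
  rw [← Module.length_eq_of_surjective (S := A) (R := B) (M := B) hφ]
  exact (Ideal.quotientKerAlgEquivOfSurjective (f := Algebra.ofId A B) hφ).toLinearEquiv.length_eq

theorem ramificationIdx_local {A B : Type u} [CommRing A] [CommRing B] [IsLocalRing A] [IsLocalRing B]
    [Algebra A B] [IsLocalHom (algebraMap A B)] :
    Ideal.ramificationIdx (maximalIdeal B) A = Weight.fibreLength (algebraMap A B) := by
  rw [Ideal.ramificationIdx_def, Weight.fibreLength]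
  have hu : (maximalIdeal B).under A = maximalIdeal A :=
    (((IsLocalRing.local_hom_TFAE (algebraMap A B)).out 0 4).mp (show IsLocalHom (algebraMap A B) from inferInstance))
  rw [hu]
  let Bm := Localization.AtPrime (maximalIdeal B)
  have hle : (maximalIdeal B).primeCompl ≤ IsUnit.submonoid B := fun b hb' => IsLocalRing.notMem_maximalIdeal.1 hb'
  have hb : Function.Bijective (algebraMap B Bm) := (IsLocalization.atUnits B _ hle).bijective
  congr 1
  rw [IsScalarTower.algebraMap_eq A B Bm, ← Ideal.map_map]
  rw [← Module.length_eq_of_surjective (S := B) (R := Bm) hb.2]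
  refine (LinearEquiv.ofBijective (((maximalIdeal A).map (algebraMap A B)).mapQ
    (((((maximalIdeal A).map (algebraMap A B)).map (algebraMap B Bm))).restrictScalars B)
    (Algebra.linearMap B Bm) (fun b hb'' => Ideal.mem_map_of_mem _ hb'')) ⟨?_, ?_⟩).length_eq.symm
  · rw [injective_iff_map_eq_zero]
    intro q hq
    obtain ⟨b, rfl⟩ := Submodule.Quotient.mk_surjective _ q
    rw [Submodule.mapQ_apply, Submodule.Quotient.mk_eq_zero] at hq
    obtain ⟨c, hc, hc'⟩ := (Ideal.mem_map_iff_of_surjective _ hb.2).1 hq
    rw [Submodule.Quotient.mk_eq_zero]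
    exact hb.1 hc' ▸ hc
  · intro q
    obtain ⟨c, rfl⟩ := Submodule.Quotient.mk_surjective _ q
    obtain ⟨b, rfl⟩ := hb.2 c
    exact ⟨Submodule.Quotient.mk b, rfl⟩

/-- The length of the closed fibre at a closed point of a base change to an algebraically closed field. -/
theorem fibreLength_eq_finInsepDegree (k K : Type u) [Field k] [Field K] [Algebra k K] [IsAlgClosed K]
    (X : Scheme.{u}) [X.Over (Spec (CommRingCat.of k))] [LocallyOfFiniteType (X ↘ Spec (CommRingCat.of k))]
    (xb : Curv2.bc k X K) (hxb : IsClosed ({xb} : Set (Curv2.bc k X K)))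
    (hx : IsClosed ({Curv2.bcFst k X K xb} : Set X)) :
    Weight.fibreLength ((Curv2.bcFst k X K).stalkMap xb).hom =
      (letI := Curv2.resAlgebra k X (Curv2.bcFst k X K xb)
       Field.finInsepDegree k (X.residueField (Curv2.bcFst k X K xb))) := by
  let g := Curv2.bcFst k X K
  let q := Curv2.bcSnd k X K
  let x := g xb
  let p := X ↘ Spec (CommRingCat.of k)
  let τ := Spec.map (CommRingCat.ofHom (algebraMap k K))
  let L : Type u := X.residueField x
  let φ : k →+* L := Curv2.resMap k X x
  haveI : IsClosedImmersion (X.fromSpecResidueField x) := IsClosedImmersion.of_isPreimmersion _ (by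
    rw [Scheme.range_fromSpecResidueField]
    exact hx)
  let f : Spec (CommRingCat.of L) ⟶ Spec (CommRingCat.of k) := Spec.map (CommRingCat.ofHom φ)
  have hf : X.fromSpecResidueField x ≫ p = f := fromSpecResidueField_comp X x
  haveI : LocallyOfFiniteType f := hf ▸ inferInstance
  haveI : IsLocallyArtinian (Spec (CommRingCat.of k)) := inferInstance
  have hfin : φ.Finite := by
    have h1 : φ.FiniteType := (HasRingHomProperty.Spec_iff (P := @LocallyOfFiniteType)).1 (show LocallyOfFiniteType f from inferInstance)
    letI := φ.toAlgebra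
    haveI : Algebra.FiniteType k L := h1
    exact (finite_of_finite_type_of_isJacobsonRing k L : Module.Finite k L)
  haveI : IsFinite f := (IsFinite.SpecMap_iff _).2 hfin
  haveI : Flat f := Flat.SpecMap_iff.2 (by
    letI := φ.toAlgebra
    show Module.Flat k L
    infer_instance)
  -- the fibre
  let F := g.fiber x
  let f' : F ⟶ Spec (CommRingCat.of K) := g.fiberι x ≫ q
  let g' : F ⟶ Spec (CommRingCat.of L) := g.fiberToSpecResidueField x
  have hsq : IsPullback g' f' f τ := by
    rw [← hf]
    exact (IsPullback.of_hasPullback g (X.fromSpecResidueField x)).flip.paste_vert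
      (IsPullback.of_hasPullback p τ)
  haveI : IsFinite f' := MorphismProperty.of_isPullback hsq ‹IsFinite f›
  let a : F := g.asFiber xb
  have ha : g.fiberι x a = xb := g.fiberι_asFiber xb
  -- the residue field at `a` is `K`
  letI := (f'.residueFieldMap a).hom.toAlgebra
  haveI : Module.Finite ((Spec (CommRingCat.of K)).residueField (f' a)) (F.residueField a) :=
    Weight.finite_residueFieldMap f' a
  let ι : K →+* F.residueField a := (f'.residueFieldMap a).hom.comp (toRes K (f' a))
  have hι : Function.Bijective ι := by
    letI := ι.toAlgebra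
    letI := (toRes K (f' a)).toAlgebra
    haveI : IsScalarTower K ((Spec (CommRingCat.of K)).residueField (f' a)) (F.residueField a) :=
      IsScalarTower.of_algebraMap_eq' rfl
    haveI : Module.Finite K ((Spec (CommRingCat.of K)).residueField (f' a)) :=
      Module.Finite.of_surjective (Algebra.linearMap K _) (bijective_toRes K _).2
    haveI : Module.Finite K (F.residueField a) :=
      Module.Finite.trans ((Spec (CommRingCat.of K)).residueField (f' a)) (F.residueField a)
    exact IsAlgClosed.algebraMap_bijective_of_isIntegral (k := K) (K := F.residueField a)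
  let q' : Spec (CommRingCat.of K) ⟶ F :=
    Spec.map (CommRingCat.ofHom (RingEquiv.ofBijective ι hι).symm.toRingHom) ≫ F.fromSpecResidueField a
  have hpt : Weight.pt q' = a := by
    have h : ∀ t, F.fromSpecResidueField a t = a := fun t => by
      have := (Scheme.range_fromSpecResidueField (X := F) a).le ⟨t, rfl⟩
      exact this
    exact h _
  have key := Trace19.mult_baseChange f hsq q'
  rw [hpt] at key
  have e1 : Field.finInsepDegree ((Spec (CommRingCat.of K)).residueField (f' a)) (F.residueField a) = 1 := by
    have hb : Function.Bijective (f'.residueFieldMap a).hom :=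
      (Function.Bijective.of_comp_iff _ (bijective_toRes K (f' a))).1 hι
    haveI : Algebra.IsSeparable ((Spec (CommRingCat.of K)).residueField (f' a)) (F.residueField a) :=
      AlgEquiv.Algebra.isSeparable (AlgEquiv.ofBijective (Algebra.ofId _ _) hb)
    exact Algebra.IsSeparable.finInsepDegree_eq _ _
  have hmK : maximalIdeal ((Spec (CommRingCat.of K)).presheaf.stalk (f' a)) = ⊥ :=
    IsLocalRing.isField_iff_maximalIdeal_eq.1 (isField_stalk K (f' a))
  have hml : maximalIdeal ((Spec (CommRingCat.of k)).presheaf.stalk (f (Weight.pt (q' ≫ g')))) = ⊥ :=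
    IsLocalRing.isField_iff_maximalIdeal_eq.1 (isField_stalk k _)
  unfold Weight.mult at key
  rw [e1, Nat.cast_one, mul_one] at key
  have e2 : Weight.fibreLength (f.stalkMap (Weight.pt (q' ≫ g'))).hom = 1 := by
    rw [Weight.fibreLength, hml, Ideal.map_bot]
    refine (congrArg ENat.toNat ((Submodule.quotEquivOfEqBot
      (⊥ : Ideal ((Spec (CommRingCat.of L)).presheaf.stalk (Weight.pt (q' ≫ g')))) rfl).length_eq.trans ?_)).trans ENat.toNat_one
    rw [Module.length_eq_one_iff, isSimpleModule_iff]
    haveI : IsSimpleOrder (Ideal ((Spec (CommRingCat.of L)).presheaf.stalk (Weight.pt (q' ≫ g')))) :=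
      Ring.isField_iff_isSimpleOrder_ideal.1 (isField_stalk L _)
    infer_instance
  rw [e2, Nat.cast_one, one_mul] at key
  have e3 : (letI := (f.residueFieldMap (Weight.pt (q' ≫ g'))).hom.toAlgebra
      Field.finInsepDegree ((Spec (CommRingCat.of k)).residueField (f (Weight.pt (q' ≫ g'))))
        ((Spec (CommRingCat.of L)).residueField (Weight.pt (q' ≫ g')))) =
      (letI := φ.toAlgebra; Field.finInsepDegree k L) :=
    finInsepDegree_square φ _ (toRes k _) (toRes L _) (bijective_toRes k _) (bijective_toRes L _)
      (residueFieldMap_toRes φ _) hfin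
  have key' : Weight.fibreLength (f'.stalkMap a).hom = _ := (Int.ofNat.inj key).trans e3
  refine Eq.trans ?_ key'
  -- the fibre stalk
  obtain ⟨hsurj, hker⟩ := FibreFlat.fiberι_stalkMap' g x a xb ha
  rw [Weight.fibreLength, Weight.fibreLength, hmK, Ideal.map_bot]
  congr 1
  rw [(Submodule.quotEquivOfEqBot (⊥ : Ideal (F.presheaf.stalk a)) rfl).length_eq, ← hker]
  exact length_quotient_ker _ hsurj

end GrothLib.RamInsep9
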